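import Cfsg.Agent.Lib.Helper9.TCData.U62B0.Main

set_option autoImplicit false
set_option maxRecDepth 1000000

namespace Cfsg.Agent.Helper9.TCData.U62B0
open Cfsg.Agent.Helper9.TC2

theorem x_8 : allRange 1008 126 (fun u => Nat.beq ((runT tab xw)^[11] u) u) = true := by decide +kernel

theorem x_9 : allRange 1134 126 (fun u => Nat.beq ((runT tab xw)^[11] u) u) = true := by decide +kernel

theorem x_10 : allRange 1260 126 (fun u => Nat.beq ((runT tab xw)^[11] u) u) = true := by decide +kernel

theorem x_11 : allRange 1386 22 (fun u => Nat.beq ((runT tab xw)^[11] u) u) = true := by decide +kernel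


end Cfsg.Agent.Helper9.TCData.U62B0
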