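import Cfsg.Agent.Lib.Helper9.TCData.U62B0.Main

set_option autoImplicit false
set_option maxRecDepth 1000000

namespace Cfsg.Agent.Helper9.TCData.U62B0
open Cfsg.Agent.Helper9.TC2

theorem m2_30 : allRange 1200 40 (fun u => chkFix tab mwords u) = true := by decide +kernel

theorem m2_31 : allRange 1240 40 (fun u => chkFix tab mwords u) = true := by decide +kernel

theorem m2_32 : allRange 1280 40 (fun u => chkFix tab mwords u) = true := by decide +kernel

theorem m2_33 : allRange 1320 40 (fun u => chkFix tab mwords u) = true := by decide +kernel

theorem m2_34 : allRange 1360 40 (fun u => chkFix tab mwords u) = true := by decide +kernel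

theorem m2_35 : allRange 1400 8 (fun u => chkFix tab mwords u) = true := by decide +kernel


end Cfsg.Agent.Helper9.TCData.U62B0
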